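import Mathlib
import Groth.Agent.SymFree12.Basic

/-!
# The staircase basis of the universal splitting algebra
-/

set_option autoImplicit false

universe u

namespace Groth.Agent.SymStair

open SymFree12

/-- Staircase exponents. -/
abbrev St (r : ℕ) : Type := Π i : Fin r, Fin (r - (i : ℕ))

/-- Splitting off the first exponent. -/
def split (r : ℕ) : St (r + 1) ≃ Fin (r + 1) × St r :=
  (Fin.consEquiv fun i : Fin (r + 1) => Fin (r + 1 - (i : ℕ))).symm.trans
    ((finCongr (Nat.sub_zero (r + 1))).prodCongr
      (Equiv.piCongrRight fun i : Fin r => finCongr (by rw [Fin.val_succ]; omega)))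

theorem split_fst (r : ℕ) (d : St (r + 1)) : ((split r d).1 : ℕ) = (d 0 : ℕ) := rfl

theorem split_snd (r : ℕ) (d : St (r + 1)) (i : Fin r) : ((split r d).2 i : ℕ) = (d i.succ : ℕ) := rfl

/-- A staircase monomial. -/
noncomputable def mon {R : Type u} [CommRing R] {r : ℕ} (a : Fin r → R) (d : St r) : Q R r a :=
  ∏ i : Fin r, U i ^ (d i : ℕ)

theorem smul_mk {R : Type u} [CommRing R] {r : ℕ} (a : Fin r → R) (c : R) (x : MvPolynomial (Fin r) R) :
    c • Ideal.Quotient.mk (rel R r a) x = Ideal.Quotient.mk (rel R r a) (MvPolynomial.C c * x) := by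
  rw [← MvPolynomial.smul_eq_C_mul]
  exact (map_smul (Ideal.Quotient.mkₐ R (rel R r a)) c x).symm

theorem bijective_comb : ∀ (r : ℕ) {R : Type u} [CommRing R] (a : Fin r → R),
    Function.Bijective fun c : St r → R => ∑ d, c d • mon a d := by
  classical
  intro r
  induction r with
  | zero =>
    intro R _ a
    have hmon : ∀ d : St 0, mon a d = 1 := fun d => Finset.prod_of_isEmpty _
    refine ⟨fun c c' h => ?_, fun y => ?_⟩
    · have h0 : rel R 0 a = ⊥ := by simp [rel]
      funext d
      simp only [hmon, Fintype.sum_unique] at h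
      rw [← map_one (Ideal.Quotient.mk (rel R 0 a)), smul_mk, smul_mk, mul_one, mul_one] at h
      have h' : (MvPolynomial.C (c default) : MvPolynomial (Fin 0) R) - MvPolynomial.C (c' default) ∈ rel R 0 a :=
        Ideal.Quotient.eq.mp h
      rw [h0, Ideal.mem_bot, sub_eq_zero] at h'
      rw [Subsingleton.elim d default]
      exact MvPolynomial.C_injective _ _ h'
    · obtain ⟨x, rfl⟩ := Ideal.Quotient.mk_surjective y
      obtain ⟨c, rfl⟩ := MvPolynomial.C_surjective (Fin 0) x
      refine ⟨fun _ => c, ?_⟩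
      simp only [hmon, Fintype.sum_unique]
      rw [← map_one (Ideal.Quotient.mk (rel R 0 a)), smul_mk, mul_one]
  | succ r ih =>
    intro R _ a
    rcases subsingleton_or_nontrivial R with hR | hR
    · haveI : Subsingleton (Q R (r + 1) a) := Module.subsingleton R _
      exact ⟨fun c c' _ => Subsingleton.elim c c', fun y => ⟨0, Subsingleton.elim _ _⟩⟩
    let pb := AdjoinRoot.powerBasis' (poly_monic a)
    have hdim : pb.dim = r + 1 := by simp [pb, poly_natDegree]
    let B := pb.basis.reindex (finCongr hdim)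
    have hB : ∀ j : Fin (r + 1), B j = AdjoinRoot.root (poly a) ^ (j : ℕ) := fun j => by
      show pb.basis.reindex (finCongr hdim) j = _
      rw [Module.Basis.reindex_apply, PowerBasis.basis_eq_pow]
      rfl
    -- regroup the coefficients
    let s : (St (r + 1) → R) → (St r → AdjoinRoot (poly a)) := fun c d' =>
      ∑ j, c ((split r).symm (j, d')) • B j
    have hs : Function.Bijective s := by
      refine ⟨fun c c' h => funext fun d => ?_, fun t =>
        ⟨fun d => B.repr (t (split r d).2) (split r d).1, funext fun d' => ?_⟩⟩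
      · have h1 := congrArg (fun z => B.repr z (split r d).1) (congrFun h (split r d).2)
        simp only [s, Module.Basis.repr_sum_self] at h1
        simpa using h1
      · simp only [s, Equiv.apply_symm_apply]
        exact B.sum_repr _
    have htail : ∀ c : St (r + 1) → R, toTail a (∑ d, c d • mon a d) = ∑ d', s c d' • mon (b' a) d' := by
      intro c
      rw [map_sum, ← (split r).symm.sum_comp, Fintype.sum_prod_type, Finset.sum_comm]
      refine Finset.sum_congr rfl fun d' _ => ?_
      rw [Finset.sum_smul]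
      refine Finset.sum_congr rfl fun j _ => ?_
      rw [map_smul, mon, map_prod, Fin.prod_univ_succ, smul_assoc, hB]
      conv_rhs => rw [Algebra.smul_def (R := AdjoinRoot (poly a)) (A := Q (AdjoinRoot (poly a)) r (b' a))]
      congr 1
      have hd := (split r).apply_symm_apply (j, d')
      congr 1
      · rw [map_pow, ← split_fst, hd, map_pow]
        congr 1
        rw [toTail, lift_U, Fin.cases_zero]
      · refine Finset.prod_congr rfl fun i _ => ?_
        rw [map_pow, ← split_snd, hd]
        congr 1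
        rw [toTail, lift_U, Fin.cases_succ]
    have hinj : Function.Injective (toTail a) := (tailEquiv a).injective
    have hcomp : (toTail a) ∘ (fun c : St (r + 1) → R => ∑ d, c d • mon a d) =
        (fun c : St r → AdjoinRoot (poly a) => ∑ d, c d • mon (b' a) d) ∘ s := funext htail
    refine ⟨fun c c' h => ?_, fun y => ?_⟩
    · refine hs.1 ((ih (b' a)).1 ?_)
      have := congrArg (toTail a) h
      simpa only [htail] using this
    · obtain ⟨c, hc⟩ := ((ih (b' a)).comp hs).2 (toTail a y)
      exact ⟨c, hinj ((congrFun hcomp c).trans hc)⟩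

/-- The staircase basis. -/
noncomputable def stairBasis {R : Type u} [CommRing R] {r : ℕ} (a : Fin r → R) : Module.Basis (St r) R (Q R r a) :=
  Module.Basis.ofEquivFun (LinearEquiv.ofBijective
    ({ toFun := fun c => ∑ d, c d • mon a d
       map_add' := fun c c' => by simp [add_smul, Finset.sum_add_distrib]
       map_smul' := fun t c => by simp [mul_smul, Finset.smul_sum] } : (St r → R) →ₗ[R] Q R r a)
    (bijective_comb r a)).symm

theorem repr_comb {R : Type u} [CommRing R] {r : ℕ} (a : Fin r → R) (c : St r → R) (d : St r) :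
    (stairBasis a).repr (∑ e, c e • mon a e) d = c d := by
  set L := LinearEquiv.ofBijective
    ({ toFun := fun c => ∑ d, c d • mon a d
       map_add' := fun c c' => by simp [add_smul, Finset.sum_add_distrib]
       map_smul' := fun t c => by simp [mul_smul, Finset.smul_sum] } : (St r → R) →ₗ[R] Q R r a)
    (bijective_comb r a) with hL
  show (Module.Basis.ofEquivFun L.symm).repr _ d = c d
  rw [Module.Basis.ofEquivFun_repr_apply]
  exact congrFun (L.symm_apply_apply c) d

theorem mk_comb {R : Type u} [CommRing R] {r : ℕ} (a : Fin r → R) (c : St r → R) :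
    Ideal.Quotient.mk (rel R r a) (∑ d : St r, MvPolynomial.C (c d) * ∏ i : Fin r, MvPolynomial.X i ^ (d i : ℕ)) =
      ∑ d, c d • mon a d := by
  rw [map_sum]
  refine Finset.sum_congr rfl fun d _ => ?_
  rw [show mon a d = Ideal.Quotient.mk (rel R r a) (∏ i : Fin r, MvPolynomial.X i ^ (d i : ℕ)) by
    rw [mon, map_prod]; exact Finset.prod_congr rfl fun i _ => (map_pow _ _ _).symm, smul_mk]

theorem mem_sup_iff {R : Type u} [CommRing R] {r : ℕ} (a : Fin r → R) (J : Ideal R) (x : MvPolynomial (Fin r) R) :
    x ∈ rel R r a ⊔ Ideal.map (MvPolynomial.C : R →+* MvPolynomial (Fin r) R) J ↔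
      ∀ d, (stairBasis a).repr (Ideal.Quotient.mk (rel R r a) x) d ∈ J := by
  classical
  constructor
  · intro hx d
    obtain ⟨i, hi, y, hy, rfl⟩ := Submodule.mem_sup.mp hx
    rw [map_add, Ideal.Quotient.eq_zero_iff_mem.mpr hi, zero_add]
    suffices h : ∀ c : MvPolynomial (Fin r) R, (stairBasis a).repr (Ideal.Quotient.mk (rel R r a) (c * y)) d ∈ J by
      simpa using h 1
    rw [Ideal.map] at hy
    clear hx
    induction hy using Submodule.span_induction with
    | mem z hz =>
      obtain ⟨j, hj, rfl⟩ := hz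
      intro c
      rw [mul_comm, ← smul_mk, map_smul, Finsupp.smul_apply, smul_eq_mul]
      exact Ideal.mul_mem_right _ _ hj
    | zero => intro c; simp
    | add z w _ _ hz hw =>
      intro c
      rw [mul_add, map_add, map_add, Finsupp.add_apply]
      exact J.add_mem (hz c) (hw c)
    | smul t z _ hz => intro c; rw [smul_eq_mul, ← mul_assoc]; exact hz _
  · intro h
    set c : St r → R := fun d => (stairBasis a).repr (Ideal.Quotient.mk (rel R r a) x) d
    set y := ∑ d : St r, MvPolynomial.C (c d) * ∏ i : Fin r, MvPolynomial.X i ^ (d i : ℕ)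
    have hxy : x - y ∈ rel R r a := by
      rw [← Ideal.Quotient.eq, mk_comb]
      refine (stairBasis a).ext_elem fun d => ?_
      rw [repr_comb]
    have hy : y ∈ Ideal.map (MvPolynomial.C : R →+* MvPolynomial (Fin r) R) J :=
      Ideal.sum_mem _ fun d _ => Ideal.mul_mem_right _ _ (Ideal.mem_map_of_mem _ (h d))
    rw [← sub_add_cancel x y]
    exact Submodule.add_mem_sup hxy hy

theorem bijective_int (n : ℕ) :
    Function.Bijective (fun p : St n → MvPolynomial (Fin n) ℤ =>
      ∑ d : St n,
        (MvPolynomial.aeval (fun i : Fin n => MvPolynomial.esymm (Fin n) ℤ ((i : ℕ) + 1))) (p d) *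
          ∏ i : Fin n, MvPolynomial.X i ^ ((d i : ℕ))) := by
  classical
  let f : MvPolynomial (Fin n) ℤ →+* MvPolynomial (Fin n) ℤ :=
    (MvPolynomial.aeval fun i : Fin n => MvPolynomial.esymm (Fin n) ℤ ((i : ℕ) + 1)).toRingHom
  let a : Fin n → MvPolynomial (Fin n) ℤ := MvPolynomial.X
  let e := MvPolynomial.eval₂Hom f (MvPolynomial.X : Fin n → MvPolynomial (Fin n) ℤ)
  have hE : ∀ i : Fin n, e (MvPolynomial.esymm (Fin n) (MvPolynomial (Fin n) ℤ) ((i : ℕ) + 1)) =
      MvPolynomial.esymm (Fin n) ℤ ((i : ℕ) + 1) := fun i => by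
    simp only [MvPolynomial.esymm, map_sum, map_prod, e, MvPolynomial.eval₂Hom_X']
  let φ : Q (MvPolynomial (Fin n) ℤ) n a →+* MvPolynomial (Fin n) ℤ :=
    Ideal.Quotient.lift _ e (by
      show rel (MvPolynomial (Fin n) ℤ) n a ≤ RingHom.ker e
      rw [rel, Ideal.span_le]
      rintro _ ⟨i, rfl⟩
      rw [SetLike.mem_coe, RingHom.mem_ker, map_sub, hE, sub_eq_zero]
      simp [e, f, a])
  have hφC : ∀ c, φ (Ideal.Quotient.mk _ (MvPolynomial.C c)) = f c := fun c => MvPolynomial.eval₂Hom_C _ _ c
  have hφU : ∀ i, φ (U i) = MvPolynomial.X i := fun i => MvPolynomial.eval₂Hom_X' _ _ i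
  let ψ : MvPolynomial (Fin n) ℤ →+* Q (MvPolynomial (Fin n) ℤ) n a := MvPolynomial.eval₂Hom (Int.castRingHom _) U
  have hψU : ∀ i, ψ (MvPolynomial.X i) = U i := fun i => MvPolynomial.eval₂Hom_X' _ _ i
  have hψf : ∀ c, ψ (f c) = algebraMap (MvPolynomial (Fin n) ℤ) (Q (MvPolynomial (Fin n) ℤ) n a) c := by
    intro c
    have : ψ.comp f = algebraMap (MvPolynomial (Fin n) ℤ) (Q (MvPolynomial (Fin n) ℤ) n a) := by
      refine MvPolynomial.ringHom_ext (fun z => by simp) fun i => ?_
      show ψ (f (a i)) = _
      have h1 : f (a i) = E (MvPolynomial.X : Fin n → MvPolynomial (Fin n) ℤ) ((i : ℕ) + 1) := by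
        rw [show f (a i) = MvPolynomial.esymm (Fin n) ℤ ((i : ℕ) + 1) from MvPolynomial.aeval_X _ _]
        exact congrFun (MvPolynomial.esymm_eq_multiset_esymm (σ := Fin n) (R := ℤ)) _
      rw [h1, map_E]
      simp only [hψU]
      exact E_U i
    exact RingHom.congr_fun this c
  have hl : ψ.comp φ = RingHom.id _ := Ideal.Quotient.ringHom_ext (MvPolynomial.ringHom_ext (fun c => by
      show ψ (φ (Ideal.Quotient.mk _ (MvPolynomial.C c))) = _
      rw [hφC, hψf]; rfl) fun i => by
      show ψ (φ (U i)) = U i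
      rw [hφU, hψU])
  have hr : φ.comp ψ = RingHom.id _ := MvPolynomial.ringHom_ext (fun z => by simp) fun i => by
      show φ (ψ (MvPolynomial.X i)) = _
      rw [hψU, hφU]; rfl
  have hbij : Function.Bijective φ :=
    Function.bijective_iff_has_inverse.mpr ⟨ψ, RingHom.congr_fun hl, RingHom.congr_fun hr⟩
  have hΦ : (fun p : St n → MvPolynomial (Fin n) ℤ => ∑ d, f (p d) * ∏ i : Fin n, MvPolynomial.X i ^ ((d i : ℕ))) =
      φ ∘ fun p : St n → MvPolynomial (Fin n) ℤ => ∑ d, p d • mon a d := by
    funext p
    simp only [Function.comp_apply, map_sum]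
    refine Finset.sum_congr rfl fun d _ => ?_
    rw [show p d • mon a d = algebraMap (MvPolynomial (Fin n) ℤ) (Q (MvPolynomial (Fin n) ℤ) n a) (p d) * mon a d by
      exact Algebra.smul_def (p d) (mon a d), map_mul, mon, map_prod]
    simp only [map_pow, hφU]
    congr 1
    exact (hφC _).symm
  show Function.Bijective fun p : St n → MvPolynomial (Fin n) ℤ => ∑ d, f (p d) * ∏ i : Fin n, MvPolynomial.X i ^ ((d i : ℕ))
  rw [hΦ]
  exact Function.Bijective.comp hbij (bijective_comb n a)

end Groth.Agent.SymStair
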